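import Groth.Prelude.Def_BlowUp2
import Groth.Agent.S8872
import Groth.Agent.S8875
import Groth.Agent.Lib.IdealModSec.Basic
import Groth.Agent.Lib.Fitting.Transform
import Groth.Agent.Lib.QCoh.Extension
import Groth.Agent.Lib.FittSheaf.PullbackFP

/-! # Strict transforms of modules along blow-ups in Fitting ideals -/

set_option autoImplicit false
universe u
open CategoryTheory CategoryTheory.Limits Opposite AlgebraicGeometry TopologicalSpace

namespace GrothLib.StrictTr

open GrothLib.InvExt (mres fres mres_mres mres_smul fres_fres)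
open GrothLib.IdealModSec (app_kernel)
open GrothLib.BlowUp (CartierOn exists_cartierOn_le flat_res)

variable {X X' : Scheme.{u}}

theorem app_mres {M N : X.Modules} (φ : M ⟶ N) {U V : X.Opens} (h : V ≤ U) (m : Γ(M, U)) :
    φ.app V (mres M h m) = mres N h (φ.app U m) :=
  (QCoh.map_app φ (homOfLE h) m).symm

section Kill

variable {E : X.IdealSheafData} {M : X.Modules} {V : X.affineOpens} {a : Γ(X, V.1)}

theorem killed_iff (ha : E.ideal V = Ideal.span {a}) (m : Γ(M, V.1)) :
    BlowUp.KilledByPowerNear E M V m ↔ ∃ n : ℕ, a ^ n • m = 0 := by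
  have h : ∀ n : ℕ, (E ^ n).ideal V = Ideal.span {a ^ n} := fun n => by
    rw [Scheme.IdealSheafData.ideal_pow, Pi.pow_apply, ha, Ideal.span_singleton_pow]
  constructor
  · rintro ⟨n, hn⟩
    exact ⟨n, hn _ ((h n).symm ▸ Ideal.mem_span_singleton_self _)⟩
  · rintro ⟨n, hn⟩
    refine ⟨n, fun c hc => ?_⟩
    rw [h n, Ideal.mem_span_singleton'] at hc
    obtain ⟨d, rfl⟩ := hc
    rw [mul_smul, hn, smul_zero]

end Kill

variable {b : X' ⟶ X} {I : X.IdealSheafData} {F : X.Modules} {G : X'.Modules}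
  {π : (Scheme.Modules.pullback b).obj F ⟶ G}

theorem app_eq_zero_iff (hG : BlowUp.IsStrictTransform b I F G π) {V : X'.affineOpens} {a : Γ(X', V.1)}
    (ha : (I.comap b).ideal V = Ideal.span {a}) (m : Γ((Scheme.Modules.pullback b).obj F, V.1)) :
    π.app V.1 m = 0 ↔ ∃ n : ℕ, a ^ n • m = 0 :=
  (hG.2 V m).trans (killed_iff ha m)

theorem exists_cartier_cover (hE : BlowUp.IsEffCartierIdeal (I.comap b)) :
    IsOpenCover fun V : {V : X'.affineOpens // CartierOn (I.comap b) V} => V.1.1 := by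
  rw [IsOpenCover, eq_top_iff]
  intro x _
  obtain ⟨V, hx, hV⟩ := hE x
  exact Opens.mem_iSup.2 ⟨⟨V, hV⟩, hx⟩

/-- The kernel of a strict transform is quasi-coherent. -/
theorem isQuasicoherent_kernel [F.IsQuasicoherent] (hE : BlowUp.IsEffCartierIdeal (I.comap b))
    (hG : BlowUp.IsStrictTransform b I F G π) : (kernel π).IsQuasicoherent := by
  haveI := FittSheaf.isQuasicoherent_pullback b F
  let M := (Scheme.Modules.pullback b).obj F
  refine QCoh.isQuasicoherent_of_smulLift_of_smulSep (kernel π)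
    (fun V : {V : X'.affineOpens // CartierOn (I.comap b) V} => V.1.1) (exists_cartier_cover hE)
    (fun V => V.1.2) fun ⟨V, a, hanz, ha⟩ g => ?_
  obtain ⟨hliftM, hsepM⟩ := QCoh.smulLift_and_smulSep_of_isAffineOpen V.2 M g
  constructor
  · intro s
    have hD := X'.basicOpen_le g
    have haD : (I.comap b).ideal (X'.affineBasicOpen g) = Ideal.span {fres X' hD a} := by
      rw [← (I.comap b).map_ideal (U := X'.affineBasicOpen g) (V := V) hD]
      refine (congrArg (Ideal.map _) ha).trans ?_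
      rw [Ideal.map_span, Set.image_singleton]
      rfl
    have hs0 : π.app (X'.basicOpen g) ((kernel.ι π).app (X'.basicOpen g) s) = 0 := by
      show (kernel.ι π ≫ π).app (X'.basicOpen g) s = 0
      rw [kernel.condition]; rfl
    obtain ⟨N, hN⟩ := (app_eq_zero_iff hG (V := X'.affineBasicOpen g) haD _).1 hs0
    obtain ⟨n, t, ht⟩ := hliftM ((kernel.ι π).app (X'.basicOpen g) s)
    have ht0 : mres M hD (a ^ N • t) = 0 := by
      rw [mres_smul, fres, map_pow]
      rw [show mres M hD t = _ from ht]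
      rw [smul_comm]
      erw [hN]
      exact smul_zero (A := Γ((Scheme.Modules.pullback b).obj F, X'.basicOpen g)) _
    obtain ⟨l, hl⟩ := hsepM _ ht0
    have hk : π.app V.1 (g ^ l • t) = 0 := (app_eq_zero_iff hG ha _).2 ⟨N, by rwa [smul_comm]⟩
    obtain ⟨k, hk⟩ := (app_kernel π V.1).2 _ hk
    refine ⟨l + n, k, (app_kernel π (X'.basicOpen g)).1 ?_⟩
    show (kernel.ι π).app (X'.basicOpen g) (mres (kernel π) hD k) = _
    rw [app_mres, hk, mres_smul, Scheme.Modules.Hom.app_smul, fres, map_pow, pow_add, mul_smul, show mres M hD t = _ from ht]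
  · intro t ht
    have : mres M (X'.basicOpen_le g) ((kernel.ι π).app V.1 t) = 0 := by
      rw [← app_mres, show mres (kernel π) (X'.basicOpen_le g) t = 0 from ht]
      exact map_zero ((kernel.ι π).app (X'.basicOpen g)).hom
    obtain ⟨n, hn⟩ := hsepM _ this
    refine ⟨n, (app_kernel π V.1).1 ?_⟩
    rw [Scheme.Modules.Hom.app_smul]
    exact hn.trans (map_zero ((kernel.ι π).app V.1).hom).symm

theorem shortExact (hG : BlowUp.IsStrictTransform b I F G π) :
    (ShortComplex.mk (kernel.ι π) π (kernel.condition π)).ShortExact :=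
  haveI := hG.1
  { exact := ShortComplex.exact_kernel π }

theorem app_surjective [F.IsQuasicoherent] (hE : BlowUp.IsEffCartierIdeal (I.comap b))
    (hG : BlowUp.IsStrictTransform b I F G π) (V : X'.affineOpens) : Function.Surjective (π.app V.1) :=
  haveI := isQuasicoherent_kernel hE hG
  QCoh.app_surjective_of_isAffineOpen (shortExact hG) V.2

theorem isQuasicoherent [F.IsQuasicoherent] (hE : BlowUp.IsEffCartierIdeal (I.comap b))
    (hG : BlowUp.IsStrictTransform b I F G π) : G.IsQuasicoherent := by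
  haveI := isQuasicoherent_kernel hE hG
  haveI := FittSheaf.isQuasicoherent_pullback b F
  exact QCoh.isQuasicoherent_X₃ (shortExact hG)

theorem isFT_pullback [F.IsQuasicoherent] (hft : CohB1.IsFT F) :
    CohB1.IsFT ((Scheme.Modules.pullback b).obj F) := by
  haveI := FittSheaf.isQuasicoherent_pullback b F
  exact (QCoh.isFiniteType_iff_moduleFinite _).2 fun V hV => FittSheaf.moduleFinite_pullback b F hft hV

theorem isFT [F.IsQuasicoherent] (hft : CohB1.IsFT F) (hE : BlowUp.IsEffCartierIdeal (I.comap b))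
    (hG : BlowUp.IsStrictTransform b I F G π) : CohB1.IsFT G := by
  haveI := isQuasicoherent hE hG
  refine (QCoh.isFiniteType_iff_moduleFinite _).2 fun V hV => ?_
  haveI := FittSheaf.moduleFinite_pullback b F hft hV
  exact Module.Finite.of_surjective (QCoh.appLinear π V) (app_surjective hE hG ⟨V, hV⟩)

/-- The sections of a strict transform: the quotient by the torsion. -/
theorem exists_linearEquiv [F.IsQuasicoherent] (hE : BlowUp.IsEffCartierIdeal (I.comap b))
    (hG : BlowUp.IsStrictTransform b I F G π) {V : X'.affineOpens} {a : Γ(X', V.1)}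
    (ha : (I.comap b).ideal V = Ideal.span {a}) :
    Nonempty ((Γ((Scheme.Modules.pullback b).obj F, V.1) ⧸
      FlatCA.powTorsion Γ(X', V.1) a Γ((Scheme.Modules.pullback b).obj F, V.1)) ≃ₗ[Γ(X', V.1)] Γ(G, V.1)) := by
  refine ⟨(Submodule.quotEquivOfEq _ (LinearMap.ker (QCoh.appLinear π V.1)) ?_).trans
    ((QCoh.appLinear π V.1).quotKerEquivOfSurjective (app_surjective hE hG V))⟩
  ext m
  rw [Fitting.mem_powTorsion_iff, LinearMap.mem_ker]
  exact (app_eq_zero_iff hG ha m).symm

variable {k : ℕ}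

/-- Along the blow-up in `Fit_k`, the strict transform has trivial `k`-th Fitting ideal. -/
theorem fitting_eq_top [F.IsQuasicoherent] (hft : CohB1.IsFT F)
    (hE : BlowUp.IsEffCartierIdeal ((Fitt.sheafIdeal F k).comap b))
    (hG : BlowUp.IsStrictTransform b (Fitt.sheafIdeal F k) F G π) : Fitt.sheafIdeal G k = ⊤ := by
  haveI := isQuasicoherent hE hG
  refine Scheme.IdealSheafData.ext_of_iSup_eq_top
    (fun V : {V : X'.affineOpens // CartierOn ((Fitt.sheafIdeal F k).comap b) V} => V.1)
    (exists_cartier_cover hE) fun ⟨V, a, hanz, ha⟩ => ?_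
  haveI := FittSheaf.moduleFinite_pullback b F hft V.2
  haveI := FittSheaf.isQuasicoherent_pullback b F
  obtain ⟨e⟩ := exists_linearEquiv hE hG ha
  rw [FittSheaf.sheafIdeal_ideal (isFT hft hE hG), ← Fitting.ideal_congr e, Scheme.IdealSheafData.ideal_top, Pi.top_apply]
  refine Fitting.ideal_transform_eq_top k a 1 hanz ?_
  rw [Ideal.span_singleton_one, Ideal.top_mul, ← FittSheaf.sheafIdeal_ideal (isFT_pullback hft),
    ← Groth.Agent.S8872.result b F (inferInstanceAs F.IsQuasicoherent) hft k]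
  exact ha

theorem fitting_eq_bot [F.IsQuasicoherent] (hft : CohB1.IsFT F) (j : ℕ)
    (hE : BlowUp.IsEffCartierIdeal (I.comap b)) (hG : BlowUp.IsStrictTransform b I F G π)
    (h : Fitt.sheafIdeal ((Scheme.Modules.pullback b).obj F) j = ⊥) : Fitt.sheafIdeal G j = ⊥ := by
  haveI := isQuasicoherent hE hG
  refine Scheme.IdealSheafData.ext_of_iSup_eq_top
    (fun V : {V : X'.affineOpens // CartierOn (I.comap b) V} => V.1)
    (exists_cartier_cover hE) fun ⟨V, a, hanz, ha⟩ => ?_
  haveI := FittSheaf.moduleFinite_pullback b F hft V.2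
  haveI := FittSheaf.isQuasicoherent_pullback b F
  obtain ⟨e⟩ := exists_linearEquiv hE hG ha
  rw [FittSheaf.sheafIdeal_ideal (isFT hft hE hG), ← Fitting.ideal_congr e, Scheme.IdealSheafData.ideal_bot, Pi.bot_apply]
  refine Fitting.ideal_transform_eq_bot j a hanz ?_
  rw [← FittSheaf.sheafIdeal_ideal (isFT_pullback hft), h]
  rfl

theorem isFinLocFreeOfRank [F.IsQuasicoherent] (hft : CohB1.IsFT F)
    (hE : BlowUp.IsEffCartierIdeal ((Fitt.sheafIdeal F k).comap b))
    (hG : BlowUp.IsStrictTransform b (Fitt.sheafIdeal F k) F G π)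
    (hlow : ∀ j, j < k → Fitt.sheafIdeal ((Scheme.Modules.pullback b).obj F) j = ⊥) :
    FlatMod.IsFinLocFreeOfRank k G := by
  have hqc := isQuasicoherent hE hG
  have hftG := isFT hft hE hG
  refine (Groth.Agent.S8875.result X' G hqc hftG k).2 ⟨fun j hj => fitting_eq_bot hft j hE hG (hlow j hj), fun j hj => ?_⟩
  refine Scheme.IdealSheafData.ext (funext fun V => ?_)
  haveI := FittSheaf.finite_sections hftG V
  have htop := congrArg (fun J : X'.IdealSheafData => J.ideal V) (fitting_eq_top hft hE hG)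
  simp only [FittSheaf.sheafIdeal_ideal hftG, Scheme.IdealSheafData.ideal_top, Pi.top_apply] at htop
  rw [FittSheaf.sheafIdeal_ideal hftG, Scheme.IdealSheafData.ideal_top, Pi.top_apply, eq_top_iff, ← htop]
  exact Fitting.ideal_mono hj

/-- Fitting ideals of a module free of rank `r` on an open. -/
theorem fitting_ideal_of_free [F.IsQuasicoherent] (hft : CohB1.IsFT F) {W : X.Opens} {r : ℕ}
    (hfree : FlatMod.IsFinLocFreeOfRank r (F.restrict W.ι)) (U : X.affineOpens) (hU : U.1 ≤ W) (j : ℕ) :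
    (Fitt.sheafIdeal F j).ideal U = if r ≤ j then ⊤ else ⊥ := by
  have hqc := FittSheaf.isQuasicoherent_pullback W.ι F
  have hfree' : FlatMod.IsFinLocFreeOfRank r ((Scheme.Modules.pullback W.ι).obj F) := fun x =>
    let ⟨U', hx, ⟨e⟩⟩ := hfree x
    ⟨U', hx, ⟨(Scheme.Modules.restrictFunctor U'.ι).mapIso
      ((Scheme.Modules.restrictFunctorIsoPullback W.ι).app F).symm ≪≫ e⟩⟩
  obtain ⟨hlow, htop⟩ := (Groth.Agent.S8875.result _ _ hqc (isFT_pullback (b := W.ι) hft) r).1 hfree'
  have hopens : U.1 ≤ W.ι.opensRange := by rwa [Scheme.Opens.opensRange_ι]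
  let U' : (W : Scheme.{u}).affineOpens := ⟨W.ι ⁻¹ᵁ U.1, U.2.preimage_of_isOpenImmersion W.ι hopens⟩
  have hcomap : ((Fitt.sheafIdeal F j).comap W.ι).ideal U' =
      ((Fitt.sheafIdeal F j).ideal U).map (W.ι.app U.1).hom := by
    rw [GrothLib.BlowUp.ideal_comap_eq_map _ W.ι U U' le_rfl, Scheme.Hom.appLE_eq_app]
  haveI := Scheme.Hom.isIso_app W.ι U.1 hopens
  have hbij : Function.Bijective (W.ι.app U.1).hom := ConcreteCategory.bijective_of_isIso (W.ι.app U.1)
  rw [Groth.Agent.S8872.result W.ι F (inferInstanceAs F.IsQuasicoherent) hft j] at hcomap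
  rw [← Ideal.comap_map_of_bijective _ hbij (I := (Fitt.sheafIdeal F j).ideal U), ← hcomap]
  split_ifs with h
  · rw [htop j h]; rfl
  · rw [hlow j (not_le.1 h), Scheme.IdealSheafData.ideal_bot, Pi.bot_apply]
    exact (RingHom.injective_iff_ker_eq_bot _).1 hbij.1

theorem isFinLocFreeOfRank_of_free [F.IsQuasicoherent] (hft : CohB1.IsFT F)
    (hfree : FlatMod.IsFinLocFreeOfRank k (F.restrict (Scheme.Opens.ι (Fitt.sheafIdeal F k).support.compl)))
    (hE : BlowUp.IsEffCartierIdeal ((Fitt.sheafIdeal F k).comap b))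
    (hG : BlowUp.IsStrictTransform b (Fitt.sheafIdeal F k) F G π) :
    FlatMod.IsFinLocFreeOfRank k G := by
  refine isFinLocFreeOfRank hft hE hG fun j hj => ?_
  refine Scheme.IdealSheafData.ext_of_iSup_eq_top
    (fun V : {V : X'.affineOpens // CartierOn ((Fitt.sheafIdeal F k).comap b) V} => V.1)
    (exists_cartier_cover hE) fun ⟨V, a, hanz, ha⟩ => ?_
  rw [Scheme.IdealSheafData.ideal_bot, Pi.bot_apply, Submodule.eq_bot_iff]
  intro d hd
  have hzero : fres X' (X'.basicOpen_le a) d = 0 := by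
    let ι := {T : X'.affineOpens // T.1 ≤ X'.basicOpen a ∧ ∃ U : X.affineOpens,
      U.1 ≤ (Fitt.sheafIdeal F k).support.compl ∧ T.1 ≤ b ⁻¹ᵁ U.1}
    refine X'.sheaf.eq_of_locally_eq' (fun T : ι => T.1.1) (X'.basicOpen a) (fun T => homOfLE T.2.1) ?_ _ 0 ?_
    · intro y hy
      have hyV : y ∈ V.1 := X'.basicOpen_le a hy
      have hby : b y ∈ (Fitt.sheafIdeal F k).support.compl := by
        intro hmem
        have hy' : y ∈ ((Fitt.sheafIdeal F k).comap b).support := by
          rw [Scheme.IdealSheafData.support_comap]; exact hmem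
        rw [Scheme.IdealSheafData.mem_support_iff_of_mem hyV, ha, Scheme.mem_zeroLocus_iff] at hy'
        exact hy' a (Ideal.mem_span_singleton_self a) hy
      obtain ⟨U, hyU, hUC⟩ := GrothLib.BlowUp.exists_affine_mem_le hby
      obtain ⟨T, hyT, hT⟩ := GrothLib.BlowUp.exists_affine_mem_le
        (W := X'.basicOpen a ⊓ b ⁻¹ᵁ U.1) ⟨hy, hyU⟩
      exact Opens.mem_iSup.2 ⟨⟨T, hT.trans inf_le_left, U, hUC, hT.trans inf_le_right⟩, hyT⟩
    · rintro ⟨T, hTa, U, hUC, hTU⟩
      have h0 : (Fitt.sheafIdeal ((Scheme.Modules.pullback b).obj F) j).ideal T = ⊥ := by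
        rw [← Groth.Agent.S8872.result b F (inferInstanceAs F.IsQuasicoherent) hft j,
          GrothLib.BlowUp.ideal_comap_eq_map _ b U T hTU,
          fitting_ideal_of_free hft hfree U hUC j, if_neg (not_le.2 hj), Ideal.map_bot]
      have hdT := Ideal.mem_map_of_mem (X'.presheaf.map (homOfLE (hTa.trans (X'.basicOpen_le a))).op).hom hd
      replace hdT := (SetLike.ext_iff.1 ((Scheme.IdealSheafData.map_ideal _ (U := T) (V := V) (hTa.trans (X'.basicOpen_le a))).trans h0) _).1 hdT
      rw [Ideal.mem_bot] at hdT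
      show fres X' hTa (fres X' (X'.basicOpen_le a) d) = fres X' hTa 0
      rw [fres_fres]
      exact hdT.trans (map_zero _).symm
  haveI := V.2.isLocalization_basicOpen a
  have h1 : algebraMap Γ(X', V.1) Γ(X', X'.basicOpen a) d = 0 := hzero
  rw [IsLocalization.map_eq_zero_iff (Submonoid.powers a)] at h1
  obtain ⟨⟨_, n, rfl⟩, hn⟩ := h1
  exact mem_nonZeroDivisors_iff_left.1 (pow_mem hanz n) d hn

end GrothLib.StrictTr
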