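import Groth.Agent.Lib.StrictTr.Basic
import Groth.Agent.Lib.AffBC.Basic
import Groth.Agent.Lib.K0Sub.KerUnit

/-! # Strict transforms and affine direct images -/

set_option autoImplicit false
set_option linter.all false
universe u
open CategoryTheory CategoryTheory.Limits Opposite AlgebraicGeometry TopologicalSpace

namespace GrothLib.StrictTr

open GrothLib.InvExt (mres fres mres_mres mres_smul fres_fres)
open GrothLib.IdealModSec (app_kernel)

variable {X X' : Scheme.{u}}

/-- An ideal sheaf generated by one section on the pieces of an affine cover. -/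
def PrincipalCover (E : X.IdealSheafData) : Prop :=
  ∀ x : X, ∃ V : X.affineOpens, x ∈ V.1 ∧ ∃ a, E.ideal V = Ideal.span {a}

theorem isOpenCover_of_principalCover {E : X.IdealSheafData} (hE : PrincipalCover E) :
    IsOpenCover fun V : {V : X.affineOpens // ∃ a, E.ideal V = Ideal.span {a}} => V.1.1 := by
  rw [IsOpenCover, eq_top_iff]
  intro x _
  obtain ⟨V, hx, hV⟩ := hE x
  exact Opens.mem_iSup.2 ⟨⟨V, hV⟩, hx⟩

theorem principalCover_comap {E : X.IdealSheafData} (hE : PrincipalCover E) (f : X' ⟶ X) :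
    PrincipalCover (E.comap f) := by
  intro x
  obtain ⟨V, hV, a, ha⟩ := hE (f x)
  obtain ⟨W, hxW, hW⟩ := GrothLib.BlowUp.exists_affine_mem_le (W := f ⁻¹ᵁ V.1) (x := x) hV
  refine ⟨W, hxW, (f.appLE V.1 W.1 hW).hom a, ?_⟩
  rw [GrothLib.BlowUp.ideal_comap_eq_map _ f V W hW, ha, Ideal.map_span, Set.image_singleton]

theorem principalCover_of_isEffCartier {E : X.IdealSheafData} (hE : _root_.BlowUp.IsEffCartierIdeal E) :
    PrincipalCover E := fun x =>
  let ⟨V, hx, a, _, ha⟩ := hE x
  ⟨V, hx, a, ha⟩

variable {b : X' ⟶ X} {I : X.IdealSheafData} {F : X.Modules} {G : X'.Modules}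
  {π : (Scheme.Modules.pullback b).obj F ⟶ G}

/-- The kernel of a strict transform is quasi-coherent. -/
theorem isQuasicoherent_kernel' [F.IsQuasicoherent] (hE : PrincipalCover (I.comap b))
    (hG : BlowUp.IsStrictTransform b I F G π) : (kernel π).IsQuasicoherent := by
  haveI := FittSheaf.isQuasicoherent_pullback b F
  let M := (Scheme.Modules.pullback b).obj F
  refine QCoh.isQuasicoherent_of_smulLift_of_smulSep (kernel π)
    (fun V : {V : X'.affineOpens // ∃ a, (I.comap b).ideal V = Ideal.span {a}} => V.1.1) (isOpenCover_of_principalCover hE)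
    (fun V => V.1.2) fun ⟨V, a, ha⟩ g => ?_
  obtain ⟨hliftM, hsepM⟩ := QCoh.smulLift_and_smulSep_of_isAffineOpen V.2 M g
  constructor
  · intro s
    have hD := X'.basicOpen_le g
    have haD : (I.comap b).ideal (X'.affineBasicOpen g) = Ideal.span {fres X' hD a} := by
      rw [← (I.comap b).map_ideal (U := X'.affineBasicOpen g) (V := V) hD]
      refine (congrArg (Ideal.map _) ha).trans ?_
      rw [Ideal.map_span, Set.image_singleton]
      rfl
    have hs0 : π.app (X'.basicOpen g) ((kernel.ι π).app (X'.basicOpen g) s) = 0 := by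
      show (kernel.ι π ≫ π).app (X'.basicOpen g) s = 0
      rw [kernel.condition]; rfl
    obtain ⟨N, hN⟩ := (app_eq_zero_iff hG (V := X'.affineBasicOpen g) haD _).1 hs0
    obtain ⟨n, t, ht⟩ := hliftM ((kernel.ι π).app (X'.basicOpen g) s)
    have ht0 : mres M hD (a ^ N • t) = 0 := by
      rw [mres_smul, fres, map_pow]
      rw [show mres M hD t = _ from ht]
      rw [smul_comm]
      erw [hN]
      exact smul_zero (A := Γ((Scheme.Modules.pullback b).obj F, X'.basicOpen g)) _
    obtain ⟨l, hl⟩ := hsepM _ ht0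
    have hk : π.app V.1 (g ^ l • t) = 0 := (app_eq_zero_iff hG ha _).2 ⟨N, by rwa [smul_comm]⟩
    obtain ⟨k, hk⟩ := (app_kernel π V.1).2 _ hk
    refine ⟨l + n, k, (app_kernel π (X'.basicOpen g)).1 ?_⟩
    show (kernel.ι π).app (X'.basicOpen g) (mres (kernel π) hD k) = _
    rw [app_mres, hk, mres_smul, Scheme.Modules.Hom.app_smul, fres, map_pow, pow_add, mul_smul, show mres M hD t = _ from ht]
  · intro t ht
    have : mres M (X'.basicOpen_le g) ((kernel.ι π).app V.1 t) = 0 := by
      rw [← app_mres, show mres (kernel π) (X'.basicOpen_le g) t = 0 from ht]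
      exact map_zero ((kernel.ι π).app (X'.basicOpen g)).hom
    obtain ⟨n, hn⟩ := hsepM _ this
    refine ⟨n, (app_kernel π V.1).1 ?_⟩
    rw [Scheme.Modules.Hom.app_smul]
    exact hn.trans (map_zero ((kernel.ι π).app V.1).hom).symm


theorem app_surjective' [F.IsQuasicoherent] (hE : PrincipalCover (I.comap b))
    (hG : BlowUp.IsStrictTransform b I F G π) (V : X'.affineOpens) : Function.Surjective (π.app V.1) :=
  haveI := isQuasicoherent_kernel' hE hG
  QCoh.app_surjective_of_isAffineOpen (shortExact hG) V.2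

theorem isQuasicoherent' [F.IsQuasicoherent] (hE : PrincipalCover (I.comap b))
    (hG : BlowUp.IsStrictTransform b I F G π) : G.IsQuasicoherent := by
  haveI := isQuasicoherent_kernel' hE hG
  haveI := FittSheaf.isQuasicoherent_pullback b F
  exact QCoh.isQuasicoherent_X₃ (shortExact hG)

/-- Killed by a power upstairs and downstairs along an affine morphism. -/
theorem killed_push_iff (g : X' ⟶ X) [IsAffineHom g] (E : X.IdealSheafData) (M : X'.Modules)
    (W : X.affineOpens) (m : Γ(M, g ⁻¹ᵁ W.1)) :
    BlowUp.KilledByPowerNear E ((Scheme.Modules.pushforward g).obj M) W m ↔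
      BlowUp.KilledByPowerNear (E.comap g) M ⟨g ⁻¹ᵁ W.1, W.2.preimage g⟩ m := by
  let V : X'.affineOpens := ⟨g ⁻¹ᵁ W.1, W.2.preimage g⟩
  have hmap : ∀ n : ℕ, ((E.comap g) ^ n).ideal V = ((E ^ n).ideal W).map (g.app W.1).hom := by
    intro n
    rw [Scheme.IdealSheafData.ideal_pow, Pi.pow_apply, Scheme.IdealSheafData.ideal_pow, Pi.pow_apply,
      Ideal.map_pow, GrothLib.BlowUp.ideal_comap_eq_map _ g W V le_rfl, Scheme.Hom.appLE_eq_app]
  refine exists_congr fun n => ⟨fun h c hc => ?_, fun h c hc => ?_⟩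
  · rw [hmap n] at hc
    induction hc using Submodule.span_induction with
    | mem c hc =>
      obtain ⟨d, hd, rfl⟩ := hc
      exact h d hd
    | zero => exact zero_smul _ m
    | add x y _ _ hx hy => rw [add_smul, hx, hy, add_zero]
    | smul r x _ hx => rw [smul_eq_mul, mul_smul, hx, smul_zero]
  · exact h _ (by rw [hmap n]; exact Ideal.mem_map_of_mem _ hc)

theorem killed_congr {E : X.IdealSheafData} {M N : X.Modules} (θ : M ≅ N) (W : X.affineOpens) (m : Γ(M, W.1)) :
    BlowUp.KilledByPowerNear E N W (θ.hom.app W.1 m) ↔ BlowUp.KilledByPowerNear E M W m := by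
  refine exists_congr fun n => forall_congr' fun a => imp_congr_right fun _ => ?_
  rw [← Scheme.Modules.Hom.app_smul]
  have hbij : Function.Bijective (θ.hom.app W.1) := (ConcreteCategory.isIso_iff_bijective _).1
    (Scheme.Modules.Hom.isIso_iff_isIso_app.1 (inferInstance : IsIso θ.hom) W.1)
  exact ⟨fun h => hbij.1 (h.trans (map_zero _).symm), fun h => by rw [h]; exact map_zero _⟩

/-- Direct images of strict transforms along affine morphisms, for a cartesian square. -/
theorem exists_isStrictTransform_push {Y Y' : Scheme.{u}} {c : Y' ⟶ Y} {g : X ⟶ Y} {g' : X' ⟶ Y'}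
    (h : IsPullback b g' g c) [IsAffineHom g] [F.IsQuasicoherent] (J : Y.IdealSheafData)
    (hJ : J.comap g = I) (hE : PrincipalCover (J.comap c))
    (hG : BlowUp.IsStrictTransform b I F G π) :
    ∃ π' : (Scheme.Modules.pullback c).obj ((Scheme.Modules.pushforward g).obj F) ⟶
        (Scheme.Modules.pushforward g').obj G,
      BlowUp.IsStrictTransform c J ((Scheme.Modules.pushforward g).obj F)
        ((Scheme.Modules.pushforward g').obj G) π' := by
  haveI : IsAffineHom g' := MorphismProperty.of_isPullback h ‹IsAffineHom g›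
  haveI := AffBC.isIso_bcMap h F
  let θ := asIso (AffBC.bcMap h F)
  have hcomap : I.comap b = (J.comap c).comap g' := by
    rw [← hJ, ← Scheme.IdealSheafData.comap_comp, ← Scheme.IdealSheafData.comap_comp, h.w]
  have hE' : PrincipalCover (I.comap b) := hcomap ▸ principalCover_comap hE g'
  haveI := isQuasicoherent' hE' hG
  haveI := QCoh.isQuasicoherent_pushforward g' G
  refine ⟨θ.hom ≫ (Scheme.Modules.pushforward g').map π, ?_, fun W m => ?_⟩
  · refine K0Sub.epi_of_app_surjective _ fun W => ?_
    have h1 : Function.Surjective (θ.hom.app W.1) := ((ConcreteCategory.isIso_iff_bijective _).1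
      (Scheme.Modules.Hom.isIso_iff_isIso_app.1 (inferInstance : IsIso θ.hom) W.1)).2
    have h2 := app_surjective' hE' hG ⟨g' ⁻¹ᵁ W.1, W.2.preimage g'⟩
    exact h2.comp h1
  · refine Iff.trans ?_ (killed_congr θ W m)
    refine Iff.trans ?_ (killed_push_iff g' (J.comap c) _ W (θ.hom.app W.1 m)).symm
    rw [← hcomap]
    exact hG.2 ⟨g' ⁻¹ᵁ W.1, W.2.preimage g'⟩ (θ.hom.app W.1 m)

end GrothLib.StrictTr
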