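import Groth.Agent.Lib.StrictTr.Basic
import Groth.Agent.Lib.FlatFP.Kernel
import Groth.Agent.Lib.FinCov.Frame
import Groth.Prelude.Def_CInt

/-! # Strict transforms of modules free on a dense open -/

set_option autoImplicit false
universe u
open CategoryTheory CategoryTheory.Limits Opposite AlgebraicGeometry TopologicalSpace

namespace GrothLib.StrictTr

open GrothLib.InvExt (mres fres fres_fres)
open GrothLib.IdealModSec (app_kernel)

variable {X X' : Scheme.{u}}

/-- A finitely presented module surjecting onto a finite locally free one has finitely presented kernel. -/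
theorem isFP_kernel_of_locFree {M G : X.Modules} [M.IsQuasicoherent] [G.IsQuasicoherent] (hM : CohB1.IsFP M)
    {r : ℕ} (hG : FlatMod.IsFinLocFreeOfRank r G) (π : M ⟶ G) [Epi π] : CohB1.IsFP (kernel π) := by
  haveI := QCoh.isQuasicoherent_kernel π
  have hS : (ShortComplex.mk (kernel.ι π) π (kernel.condition π)).ShortExact :=
    { exact := ShortComplex.exact_kernel π }
  have hloc : ∀ x : X, ∃ (V : X.Opens) (_ : IsAffineOpen V), x ∈ V ∧
      Module.FinitePresentation Γ(X, V) Γ(kernel π, V) := by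
    intro x
    obtain ⟨W, e, hxW, he⟩ := FinCov.exists_frame_nhd_of_rank hG x
    obtain ⟨V, hV, hxV, hVW⟩ := exists_isAffineOpen_mem_and_subset (show x ∈ W from hxW)
    refine ⟨V, hV, hxV, ?_⟩
    haveI : Module.Free Γ(X, V) Γ(G, V) := Module.Free.of_basis (he.basis V hVW)
    haveI := FlatFP.finitePresentation_sections M hM hV
    obtain ⟨l, hl⟩ := Module.projective_lifting_property (QCoh.appLinear π V) LinearMap.id
      (QCoh.app_surjective_of_isAffineOpen hS hV)
    refine Module.finitePresentation_of_split_exact (QCoh.appLinear (kernel.ι π) V) (QCoh.appLinear π V) l hl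
      (app_kernel π V).1 fun m => ⟨fun h => (app_kernel π V).2 m h, ?_⟩
    rintro ⟨k, rfl⟩
    show (kernel.ι π ≫ π).app V k = 0
    rw [kernel.condition]; rfl
  choose V hV hxV hfp using hloc
  exact FlatFP.isFP_of_sections (kernel π) V (top_le_iff.mp fun x _ => Opens.mem_iSup.2 ⟨x, hxV x⟩) hV hfp

/-- A module whose sections over affine opens inside `W` vanish restricts to zero on `W`. -/
theorem isZero_restrict_of_affine {M : X.Modules} {W : X.Opens}
    (h : ∀ V : X.affineOpens, V.1 ≤ W → ∀ s : Γ(M, V.1), s = 0) : IsZero (M.restrict W.ι) := by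
  rw [IsZero.iff_id_eq_zero]
  refine Scheme.Modules.hom_ext _ _ fun T => ?_
  ext s
  show (show Γ(M, W.ι ''ᵁ T) from s) = 0
  have hle : W.ι ''ᵁ T ≤ W := W.ι_image_le T
  refine TopCat.Sheaf.eq_of_locally_eq' ⟨M.presheaf, M.isSheaf⟩
    (fun V : {V : X.affineOpens // V.1 ≤ W.ι ''ᵁ T} => V.1.1) (W.ι ''ᵁ T) (fun V => homOfLE V.2)
    (fun x hx => ?_) _ _ fun V => (h V.1 (V.2.trans hle) _).trans (map_zero _).symm
  obtain ⟨V, hxV, hV⟩ := GrothLib.BlowUp.exists_affine_mem_le hx
  exact Opens.mem_iSup.mpr ⟨⟨V, hV⟩, hxV⟩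

/-- Fitting ideals below the rank of a module free on a schematically dense open vanish. -/
theorem fitting_eq_bot_of_dense {F : X.Modules} [F.IsQuasicoherent] (hft : CohB1.IsFT F) {U : X.Opens}
    (hU : CInt.IsSchematicallyDense U) {r : ℕ} (hfree : FlatMod.IsFinLocFreeOfRank r (F.restrict U.ι))
    {j : ℕ} (hj : j < r) : Fitt.sheafIdeal F j = ⊥ := by
  refine Scheme.IdealSheafData.ext (funext fun V => ?_)
  rw [Scheme.IdealSheafData.ideal_bot, Pi.bot_apply, Submodule.eq_bot_iff]
  intro d hd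
  refine hU V.1 ?_
  rw [map_zero]
  refine X.sheaf.eq_of_locally_eq' (fun T : {T : X.affineOpens // T.1 ≤ V.1 ⊓ U} => T.1.1) (V.1 ⊓ U)
    (fun T => homOfLE T.2) (fun x hx => ?_) _ _ fun T => ?_
  · obtain ⟨T, hxT, hT⟩ := GrothLib.BlowUp.exists_affine_mem_le hx
    exact Opens.mem_iSup.mpr ⟨⟨T, hT⟩, hxT⟩
  · have hdT := Ideal.mem_map_of_mem (X.presheaf.map (homOfLE (T.2.trans inf_le_left)).op).hom hd
    replace hdT := (SetLike.ext_iff.1 (((Fitt.sheafIdeal F j).map_ideal (U := T.1) (V := V) (T.2.trans inf_le_left)).trans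
      ((fitting_ideal_of_free hft hfree T.1 (T.2.trans inf_le_right) j).trans (if_neg (not_le.2 hj)))) _).1 hdT
    rw [Ideal.mem_bot] at hdT
    show fres X T.2 (fres X (inf_le_left : V.1 ⊓ U ≤ V.1) d) = fres X T.2 0
    rw [fres_fres]
    exact hdT.trans (map_zero _).symm

/-- The kernel of a strict transform vanishes where the centre is empty. -/
theorem isZero_kernel_restrict {b : X' ⟶ X} {I : X.IdealSheafData} {F : X.Modules} {G : X'.Modules}
    {π : (Scheme.Modules.pullback b).obj F ⟶ G} (hG : BlowUp.IsStrictTransform b I F G π) {U : X.Opens}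
    (hU : ∀ V : X.affineOpens, V.1 ≤ U → I.ideal V = ⊤) : IsZero ((kernel π).restrict (b ⁻¹ᵁ U).ι) := by
  refine isZero_restrict_of_affine fun T hT s => ?_
  have htop : (I.comap b).ideal T = Ideal.span {1} := by
    rw [Ideal.span_singleton_one]
    refine FittSheaf.ideal_eq_of_germ T.2 fun y hy => ?_
    obtain ⟨V, hyV, hV⟩ := GrothLib.BlowUp.exists_affine_mem_le (show b y ∈ U from hT hy)
    obtain ⟨T', hyT', hT'⟩ := GrothLib.BlowUp.exists_affine_mem_le (W := T.1 ⊓ b ⁻¹ᵁ V.1) ⟨hy, hyV⟩
    have h1 : ((I.comap b).ideal T).map (X'.presheaf.map (homOfLE (hT'.trans inf_le_left)).op).hom = ⊤ := by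
      refine ((I.comap b).map_ideal (U := T') (V := T) (hT'.trans inf_le_left)).trans ?_
      rw [GrothLib.BlowUp.ideal_comap_eq_map I b V T' (hT'.trans inf_le_right), hU V hV, Ideal.map_top]
    have hg : (X'.presheaf.germ T'.1 y hyT').hom.comp (X'.presheaf.map (homOfLE (hT'.trans inf_le_left)).op).hom =
        (X'.presheaf.germ T.1 y hy).hom :=
      RingHom.ext fun a => TopCat.Presheaf.germ_res_apply X'.presheaf _ y hyT' a
    rw [← hg, ← Ideal.map_map, h1, Ideal.map_top, Ideal.map_top]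
  refine (app_kernel π T.1).1 ?_
  rw [map_zero]
  obtain ⟨n, hn⟩ := (app_eq_zero_iff hG htop ((kernel.ι π).app T.1 s)).1 (by
    show (kernel.ι π ≫ π).app T.1 s = 0
    rw [kernel.condition]; rfl)
  rwa [one_pow, one_smul] at hn

end GrothLib.StrictTr
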